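import Cfsg.Agent.Lib.Recognition.GTwoThreeAmalgam.Embed

/-!
The recognition theorem in terms of the Chevalley group.
-/

set_option autoImplicit false

namespace CfsgLib.GTwoThreeAmalgam

universe u

variable {G : Type u} [Group G] [Finite G] {A₁ A₂ Q₁ Q₂ : Subgroup G}

/-- A group with two such parabolics is the Chevalley group of type `G₂` over three elements. -/
theorem Pair.nonempty_chev (P : Pair A₁ A₂ Q₁ Q₂) (F : Type*) [Field F] [Fintype F] (hF : Fintype.card F = 3) :
    Nonempty (G ≃* ↥(Cfsg.Lie.chevG2.group F)) := by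
  obtain ⟨g, n₁, n₂, H⟩ := exists_sys P
  obtain ⟨φ⟩ := H.exists_iso F hF
  have htop := H.sup_eq_top (gfacts_of_equiv F hF φ)
  exact ⟨(Subgroup.topEquiv.symm.trans (MulEquiv.subgroupCongr htop.symm)).trans φ⟩

/-- The statement used for the recognition from an involution centralizer. -/
theorem Pair.exists_chev (P : Pair A₁ A₂ Q₁ Q₂) :
    ∃ (F : Type) (_ : Field F) (_ : Fintype F), Fintype.card F = 3 ∧
      Nonempty (G ≃* ↥(Cfsg.Lie.chevG2.group F)) := by
  haveI := Fact.mk Nat.prime_three
  exact ⟨ZMod 3, inferInstance, inferInstance, ZMod.card 3, P.nonempty_chev (ZMod 3) (ZMod.card 3)⟩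

end CfsgLib.GTwoThreeAmalgam
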